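/-
`S₄`-free groups, part E: Suzuki groups and groups with Sylow `2`-subgroups of order four are good.
-/
import Cfsg.Agent.Sig.S4D
import Cfsg.Agent.BN.SzAut
import Cfsg.Agent.BN.SzNorm
import Cfsg.Agent.BN.SzSub
import Cfsg.Agent.BN.SzModels
import Cfsg.Agent.Fgs2.Zsigmondy
import Cfsg.Agent.Bender.Final
import Cfsg.Agent.PLocal.Dickson
import Cfsg.Agent.Classical.SmallIso
set_option autoImplicit false
set_option linter.unusedSectionVars false

namespace CF.Sig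
open Subgroup Cfsg CF.BG
open CF.Loc (Inv)
open CF.BN.Suz (SzData Tits)
open CF.Invol (SEmb)
open CF.Bender (IsBender)
open CF.Transfer (involves_iff involves_trans involves_of_surjective involves_of_injective
  involves_of_equiv involves_card_dvd involves_subgroup)
open scoped commutatorElement Pointwise

universe u
variable {G : Type u} [Group G]

section Sz
variable {F : Type*} [Field F] [Finite F] {T : Tits F} (D : SzData T G)
include D

theorem sz_semb : SEmb D.B := fun t ht o g hg => by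
  have h4 : ∀ x : G, orderOf x = 2 → x ^ 4 = 1 := fun x hx => orderOf_dvd_iff_pow_eq_one.1 (by
    rw [hx]; norm_num)
  exact D.mem_B_of_commute (D.mem_U_of_mem_B ht (h4 t o)) (by rintro rfl; simp at o)
    (D.mem_U_of_mem_B hg (h4 _ (by rw [orderOf_conj', o])))

theorem sz_not_inv : ¬ Inv 3 (⊤ : Subgroup G) := fun ⟨_, _, y, _, _, h, _⟩ =>
  D.not_three_dvd_card (h ▸ orderOf_dvd_natCard y)

theorem sz_inner (hq : 2 < Nat.card F) (α : MulAut G) (h : α * α = 1) :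
    ∃ g, ∀ x, α x = g * x * g⁻¹ := by
  have e : ∀ (φ : MulAut G) (g : G), φ * MulAut.conj g * φ⁻¹ = MulAut.conj (φ g) := fun φ g => by
    ext x; simp
  have hN : (MulAut.conj : G →* MulAut G).range.Normal :=
    ⟨by rintro _ ⟨g, rfl⟩ φ; exact ⟨_, (e φ g).symm⟩⟩
  obtain ⟨n, -, hn⟩ := T.exists_card_eq
  have c := D.card_out hq
  rw [CF.BN.Suz.card_ringAut hn] at c
  have o : Odd n := by
    by_contra h2
    obtain ⟨m, rfl⟩ := (Nat.not_odd_iff_even.1 h2).two_dvd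
    refine D.not_three_dvd_card ?_
    rw [D.card_G, hn, pow_mul]
    exact ((by simpa using Nat.sub_dvd_pow_sub_pow 4 1 m : 3 ∣ (2 ^ 2) ^ m - 1).mul_left _).mul_right _
  have h1 : orderOf (QuotientGroup.mk α : MulAut G ⧸ (MulAut.conj : G →* MulAut G).range) ∣ 2 :=
    orderOf_dvd_of_pow_eq_one (by rw [pow_two, ← QuotientGroup.mk_mul, h, QuotientGroup.mk_one])
  have h2 := orderOf_dvd_natCard (QuotientGroup.mk α : MulAut G ⧸ (MulAut.conj : G →* MulAut G).range)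
  rw [c] at h2
  have h3 := orderOf_eq_one_iff.1 (Nat.eq_one_of_dvd_coprimes (Nat.coprime_two_left.2 o) h1 h2)
  obtain ⟨g, rfl⟩ := (QuotientGroup.eq_one_iff _).1 h3
  exact ⟨g, fun _ => rfl⟩

theorem sz_card_le {E : Subgroup G} (a : Abelem 2 E) : ♯E ≤ Nat.card F := by
  have := D.finite
  obtain ⟨g, hg⟩ := D.exists_conj_le_U a.pi.isPGroup
  rw [← (D.conj g).card_Z]
  exact card_le fun x hx => ((D.conj g).mem_Z_iff_sq (hg hx)).2 (by rw [← pow_two]; exact a.pow x hx)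

theorem sz_big (hq : 2 < Nat.card F) {k : ℕ} (hk : 2 ^ k ≤ Nat.card F) :
    ∃ r, BigP k r ∧ r ∣ Nat.card G := by
  obtain ⟨m, m0, hm⟩ := T.exists_card_eq
  obtain ⟨r, hr, h1, h2⟩ := CF.Fgs2.zsigmondy (a := 2) (n := 4 * m) le_rfl (by omega) (by omega)
    (by omega)
  rw [hm] at hk
  have km := (Nat.pow_le_pow_iff_right (by norm_num)).1 hk
  refine ⟨r, ⟨hr, ?_, fun d d0 d1 => h2 d d0 (by omega)⟩, ?_⟩
  · rintro rfl
    have : 2 ∣ 2 ^ (4 * m) := dvd_pow_self 2 (by omega)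
    have := Nat.one_le_two_pow (n := 4 * m)
    omega
  · rw [D.card_G, hm]
    have e : 2 ^ (4 * m) - 1 = ((2 ^ m) ^ 2 + 1) * (2 ^ (2 * m) - 1) := by
      rw [← pow_mul, mul_comm m 2, ← Nat.sq_sub_sq, ← pow_mul, one_pow]; congr 2; ring
    rw [e] at h1
    exact (((hr.dvd_mul.1 h1).resolve_right (h2 _ (by omega) (by omega)))).mul_left _

theorem sz_dt [Finite G] {E : Subgroup G} (e : E ≤ D.U) (a : Abelem 2 E) (e0 : E ≠ ⊥) :
    ∃ k L, DT k E ⊥ L ∧ ¬ L ≤ D.B := by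
  obtain ⟨t, ht, t1⟩ := exists_mem_ne_one e0
  have ot := a.orderOf ht t1
  have eB := e.trans D.U_le_B
  obtain ⟨g, -, hg⟩ := SetLike.not_le_iff_exists.1 fun h => D.B_ne_top (top_le_iff.1 h)
  have key : ∀ g, g ∉ D.B → g * t * g⁻¹ ∉ D.B := fun g hg h => hg (sz_semb D t (eB ht) ot g h)
  by_cases c : ♯E = 2
  · have t2 : t * t = 1 := by rw [← pow_two]; exact a.pow t ht
    have s2 : g * t * g⁻¹ * (g * t * g⁻¹) = 1 := by
      calc g * t * g⁻¹ * (g * t * g⁻¹) = g * (t * t) * g⁻¹ := by group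
        _ = 1 := by rw [t2]; group
    have o := (sz_semb D).odd_mul (eB ht) ot (key g hg) s2
    have ks := key g hg
    generalize g * t * g⁻¹ = s at o s2 ks
    have i : t * (t * s) * t⁻¹ = (t * s)⁻¹ := by
      rw [← mul_assoc, t2, one_mul, mul_inv_rev, inv_eq_of_mul_eq_one_right s2]
    have eE : zpowers t = E := zpowers_eq_of_prime (c ▸ Nat.prime_two) ht t1
    obtain ⟨B, L, d, -, l⟩ := D_odd (H := ⊤) (M := D.B) (O := zpowers (t * s)) (sz_not_inv D) a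
      (piGrp_zpowers.2 (piNat_of_odd o)) (eE ▸ zpowers_le.2 (mem_norm_of_cj_le (by
        rw [cj_zpowers, i]; exact zpowers_le.2 (inv_mem (mem_zpowers _))))) le_top le_top fun h => by
      have h1 := mul_mem (h (commutator_mem_commutator (mem_zpowers (t * s)) ht)) (eB ht)
      rw [commutatorElement_def, inv_mul_cancel_right] at h1
      exact ks ((mul_mem_cancel_left (eB ht)).1 (CF.Loc.mem_of_inverts o i (eB ht) h1))
    have h1 := card_mul_relIndex d.le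
    rw [d.idx, c] at h1
    obtain rfl := card_eq_one'.1 (by omega : ♯B = 1)
    exact ⟨1, L, d, l⟩
  obtain ⟨L, -, ⟨⟨g, rfl⟩, hL⟩, hmin⟩ := exists_minimal
    (P := fun L => (∃ g, L = E ⊔ cj g E) ∧ ¬ L ≤ D.B) (H := E ⊔ cj g E)
    ⟨⟨g, rfl⟩, fun h => key g hg (h (mem_sup_right (conj_mem_cj.2 ht)))⟩
  obtain ⟨l, hl, hlB⟩ := SetLike.not_le_iff_exists.1 hL
  have eL := hmin _ ⟨⟨l, rfl⟩, fun h => key l hlB (h (mem_sup_right (conj_mem_cj.2 ht)))⟩
    (sup_le le_sup_left (cj_le_of_mem hl le_sup_left))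
  generalize E ⊔ cj g E = L at hL hl eL
  have hE : E ≤ L := eL ▸ le_sup_left
  have hZ : E ≤ D.Z := fun x hx => (D.mem_Z_iff_sq (e hx)).2 (by rw [← pow_two]; exact a.pow x hx)
  obtain ⟨s, hs, hs'⟩ := SetLike.not_le_iff_exists.1 fun h : E ≤ zpowers t =>
    c (by rw [le_antisymm h (zpowers_le.2 ht), Nat.card_zpowers, ot])
  obtain ⟨b, rfl⟩ := hZ ht
  obtain ⟨c, rfl⟩ := hZ hs
  obtain ⟨h, K, hK, rfl⟩ := D.exists_eq_sub (M := L) (b := b) (c := c)
    (by rintro rfl; exact t1 D.u_zero) (by rintro rfl; exact hs' (D.u_zero ▸ one_mem _))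
    (by rintro rfl; exact hs' (mem_zpowers _)) (hE ht) (hE hs) hL
  obtain ⟨D'⟩ := (D.conj h).nonempty_subData K
  obtain ⟨k, hk⟩ := a.pi.card_pow
  obtain ⟨r, hr, hd⟩ := sz_big D' hK (k := k) (by
    rw [← hk, ← card_subgroupOf' hE]
    exact sz_card_le D' ((abelem_map_iff (subtype_injective _)).1 (by rwa [map_subgroupOf hE])))
  have s : Smp ((D.conj h).sub K) := ⟨(D.conj h).isSimpleGroup_sub hK, fun c =>
    (D.conj h).not_isSolvable_sub hK c.sol⟩
  refine ⟨k, _, ⟨Nat.pos_of_ne_zero ?_, bot_le, by rw [relIndex_bot_left, hk], ⟨⟨l, hl, eL.symm⟩, r, hr,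
    fun N _ n i => ?_⟩, comm_eq_bot.1 (commutator_bot_right _)⟩, hL⟩
  · rintro rfl
    exact e0 (card_eq_one'.1 hk)
  rcases s.eq_or (normalIn_inf_right n) with e | e
  · exact absurd (by rwa [relIndex_of_inf_bot e]) i
  · exact (ev_self _).mono le_rfl (e.ge.trans inf_le_left)

theorem gd_sz (hq : 2 < Nat.card F) : Gd G := by
  have := D.finite
  refine Or.inl ⟨sz_inner D hq, fun S E M s e a e0 m c => ?_⟩
  obtain ⟨P, rfl⟩ := s.exists_sylow_top
  obtain ⟨g, hg⟩ := D.exists_conj_U_eq P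
  rw [← hg] at e m
  obtain ⟨k, L, d, l⟩ := sz_dt (D.conj g) e a e0
  refine ⟨k, L, d, le_top, fun h => l (h.trans ?_)⟩
  by_contra h1
  exact c ((D.conj g).eq_top_of_U_le m h1).ge

end Sz

variable [Finite G] {A B C D E F H K L M N O P Q R S T U V W X Y Z : Subgroup G} {k : ℕ} {x y g a t : G}

theorem exists_szData {X : Type*} [Group X] (h : Lie.IsoSuzuki X) :
    ∃ (F : Type) (_ : Field F) (_ : Finite F) (T : Tits F), 2 < Nat.card F ∧ Nonempty (SzData T X) := by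
  obtain ⟨F, _, _, m, hm, hF, ⟨e⟩⟩ := h
  exact ⟨F, _, inferInstance, _, CF.BN.Suz.two_lt_card hm hF, ⟨(CF.BN.Suz.lieD F m hF).ofEquiv e⟩⟩

theorem inv3_quot {Y : Type*} [Group Y] {a y : Y} (a2 : a * a = 1) (y3 : y * y * y = 1)
    (e : y * (a * y) = a) (y1 : y ≠ 1) : Inv 3 (⊤ : Subgroup (Y ⧸ center Y)) := by
  rw [← pow_two, ← pow_succ] at y3
  rw [← eq_inv_mul_iff_mul_eq, ← mul_inv_eq_iff_eq_mul] at e
  have : Fact (Nat.Prime 3) := ⟨Nat.prime_three⟩
  refine ⟨a, trivial, y, trivial, ⟨1, by rw [pow_one, pow_two, ← QuotientGroup.mk_mul, a2,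
    QuotientGroup.mk_one]⟩, orderOf_eq_prime (by rw [← QuotientGroup.mk_pow, y3, QuotientGroup.mk_one])
    fun h => y1 ?_, by rw [← QuotientGroup.mk_inv, ← QuotientGroup.mk_inv, ← e]; rfl⟩
  rw [mem_center_iff.1 ((QuotientGroup.eq_one_iff _).1 h) a, mul_inv_cancel_right] at e
  rw [← y3, pow_succ, pow_two, eq_inv_iff_mul_eq_one.1 e, one_mul]

theorem two_eq_zero_of_card {F : Type*} [Field F] [Fintype F] {n : ℕ} (h : Fintype.card F = 2 ^ n) :
    (2 : F) = 0 := by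
  have := FiniteField.cast_card_eq_zero F
  rw [h] at this
  push_cast at this
  exact eq_zero_of_pow_eq_zero this

theorem inv3_psl {F : Type*} [Field F] (h : (2 : F) = 0) :
    Inv 3 (⊤ : Subgroup (Matrix.ProjectiveSpecialLinearGroup (Fin 2) F)) := by
  have h1 : (1 : F) + 1 = 0 := by rw [one_add_one_eq_two, h]
  have h2 : (-1 : F) = 1 := neg_eq_of_add_eq_zero_left h1
  obtain ⟨a, ha⟩ : ∃ a : Matrix.SpecialLinearGroup (Fin 2) F, a.1 = !![0, 1; 1, 0] :=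
    ⟨⟨_, by simp [Matrix.det_fin_two, h2]⟩, rfl⟩
  obtain ⟨y, hy⟩ : ∃ a : Matrix.SpecialLinearGroup (Fin 2) F, a.1 = !![0, 1; 1, 1] :=
    ⟨⟨_, by simp [Matrix.det_fin_two, h2]⟩, rfl⟩
  refine inv3_quot (a := a) (y := y) (Subtype.ext ?_) (Subtype.ext ?_) (Subtype.ext ?_) ?_
  · change a.1 * a.1 = 1
    rw [ha]; ext i j; fin_cases i <;> fin_cases j <;> simp
  · change y.1 * y.1 * y.1 = 1
    rw [hy]; ext i j; fin_cases i <;> fin_cases j <;> simp [h1]
  · change y.1 * (a.1 * y.1) = a.1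
    rw [ha, hy]; ext i j; fin_cases i <;> fin_cases j <;> simp [h1]
  · rintro rfl
    simpa using congrFun (congrFun hy 0) 0

theorem inv3_psu {F : Type*} [Field F] (h : (2 : F) = 0) (q : ℕ) :
    Inv 3 (⊤ : Subgroup (PSU 3 F q)) := by
  have h1 : (1 : F) + 1 = 0 := by rw [one_add_one_eq_two, h]
  have h2 : (-1 : F) = 1 := neg_eq_of_add_eq_zero_left h1
  obtain ⟨a, ha⟩ : ∃ a : SU 3 F q, a.1.1 = !![0, 1, 0; 1, 0, 0; 0, 0, 1] :=
    ⟨⟨⟨_, by simp [Matrix.det_fin_three, h2]⟩, fun u v => by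
      change hermForm 3 F q (!![0, 1, 0; 1, 0, 0; 0, 0, 1].mulVec u)
        (!![0, 1, 0; 1, 0, 0; 0, 0, 1].mulVec v) = _
      simp [hermForm, Fin.sum_univ_three, Matrix.mulVec, dotProduct]; ring⟩, rfl⟩
  obtain ⟨y, hy⟩ : ∃ a : SU 3 F q, a.1.1 = !![0, 1, 0; 0, 0, 1; 1, 0, 0] :=
    ⟨⟨⟨_, by simp [Matrix.det_fin_three]⟩, fun u v => by
      change hermForm 3 F q (!![0, 1, 0; 0, 0, 1; 1, 0, 0].mulVec u)
        (!![0, 1, 0; 0, 0, 1; 1, 0, 0].mulVec v) = _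
      simp [hermForm, Fin.sum_univ_three, Matrix.mulVec, dotProduct]; ring⟩, rfl⟩
  refine inv3_quot (a := a) (y := y) (Subtype.ext (Subtype.ext ?_)) (Subtype.ext (Subtype.ext ?_))
    (Subtype.ext (Subtype.ext ?_)) ?_
  · change a.1.1 * a.1.1 = 1
    rw [ha]; ext i j; fin_cases i <;> fin_cases j <;> simp
  · change y.1.1 * y.1.1 * y.1.1 = 1
    rw [hy]; ext i j; fin_cases i <;> fin_cases j <;> simp
  · change y.1.1 * (a.1.1 * y.1.1) = a.1.1
    rw [ha, hy]; ext i j; fin_cases i <;> fin_cases j <;> simp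
  · rintro rfl
    simpa using congrFun (congrFun hy 0) 0

theorem inv_of_equiv {X Y : Type*} [Group X] [Group Y] [Finite X] (e : X ≃* Y)
    (h : Inv 3 (⊤ : Subgroup Y)) : Inv 3 (⊤ : Subgroup X) :=
  have : Fact (Nat.Prime 3) := ⟨Nat.prime_three⟩
  Inv.of_map (by norm_num) e.toMonoidHom (by rwa [map_top_of_surjective _ e.surjective])

theorem suz_of_bender (h : IsBender G) (h3 : ¬ Inv 3 (⊤ : Subgroup G)) : Lie.IsoSuzuki G := by
  obtain ⟨F, _, _, ⟨n, -, h⟩, ⟨e⟩⟩ | h | ⟨F, _, _, n, -, h, ⟨e⟩⟩ := h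
  · exact absurd (inv_of_equiv e (inv3_psl (two_eq_zero_of_card h))) h3
  · exact h
  · exact absurd (inv_of_equiv e (inv3_psu (two_eq_zero_of_card (h.trans (pow_mul ..).symm)) _)) h3

theorem gd_of_suz (h : Lie.IsoSuzuki G) : Gd G := by
  obtain ⟨F, _, _, T, h, ⟨D⟩⟩ := exists_szData h
  exact gd_sz D h

theorem smp_top [h : IsSimpleGroup G] (c : ¬ IsMulCommutative G) : Smp (⊤ : Subgroup G) :=
  ⟨topEquiv.isSimpleGroup, fun a => c ⟨⟨fun x y => a.mul_comm trivial trivial⟩⟩⟩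

theorem se_of_ab (s : Syl 2 T ⊤) (a : Abel T) (t0 : T ≠ ⊥) (m : M ≠ ⊤) (n : 𝐍 T ≤ M)
    (c : ∀ t ∈ T, t ≠ 1 → 𝐂₁ t ≤ M) : IsStronglyEmbedded M := by
  have l := (le_norm_self T).trans n
  refine CF.Invol.se_iff.2 ⟨m, even_iff_two_dvd.2 ((s.pi.dvd_card t0).trans (card_dvd l)),
    (CF.Invol.sEmb_iff_normalizer ((s.of_le l le_top).isSylowIn Nat.prime_two)).2 fun X hX x0 => ?_⟩
  obtain ⟨t, ht, t1⟩ := exists_mem_ne_one x0
  rw [← (s.of_le (a.cent le_rfl hX) le_top).syl_frattini_sup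
    (⟨cent_le_norm X, norm_le_norm_cent X⟩ : 𝐂 X ⊴ 𝐍 X)]
  exact sup_le ((cent_le_cent1 ht).trans (c t (hX ht) t1)) (inf_le_right.trans n)

/-- the subgroup generated by the commutators with invariant subgroups of odd order -/
def Gm (T : Subgroup G) : Subgroup G := sSup {Y | ∃ O, PiGrp {2}ᶜ O ∧ T ≤ 𝐍 O ∧ Y = ⁅O, T⁆}

theorem le_Gm (o : PiGrp {2}ᶜ O) (n : T ≤ 𝐍 O) : ⁅O, T⁆ ≤ Gm T := le_sSup ⟨O, o, n, rfl⟩

theorem norm_Gm (T : Subgroup G) : 𝐍 T ≤ 𝐍 (Gm T) := le_norm_of_cj_le fun g hg => by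
  rw [cj_le_iff]
  refine sSup_le ?_
  rintro _ ⟨O, o, n, rfl⟩
  rw [← cj_le_iff, cj_comm, cj_of_norm hg]
  exact le_Gm (o.cj g) (by rw [← cj_norm, ← cj_of_norm hg]; exact cj_mono g n)

theorem odd_norm_Gm (p : PiGrp {2} T) (o : PiGrp {2}ᶜ O) (n : T ≤ 𝐍 O) : O ≤ 𝐍 (Gm T) := by
  rw [← comm_sup_inf_cent n (p.coprime o) (Or.inl p.sol)]
  exact sup_le (norm_of_le (le_Gm o n)) (inf_le_right.trans ((cent_le_norm T).trans (norm_Gm T)))

theorem gen_of_Gm (h : Gm T = ⊤) (M : Subgroup G)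
    (m : ∀ O, O ≤ ⊤ → PiGrp {2}ᶜ O → T ≤ 𝐍 O → ⁅O, T⁆ ≤ M) : ⊤ ≤ M :=
  h.ge.trans (sSup_le (by rintro _ ⟨O, o, n, rfl⟩; exact m O le_top o n))

theorem Gm_eq_top [IsSimpleGroup G] (b : ¬ IsBender G) (s : Syl 2 T ⊤) (a : Abel T) (t0 : T ≠ ⊥)
    (c : ∀ t ∈ T, t ≠ 1 → 𝐂₁ t ≤ 𝐍 (Gm T)) (g0 : Gm T ≠ ⊥) : Gm T = ⊤ := by
  by_cases h : 𝐍 (Gm T) = ⊤
  · exact ((normalIn_top.1 ⟨le_top, h.ge⟩).eq_bot_or_eq_top).resolve_left g0
  · exact absurd (CF.Bender.se_simple CF.Bender.part2 (se_of_ab s a t0 h (norm_Gm T) c)).1 b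

theorem cent_of_four (s : Syl 2 T K) (a : Abel T) (c : ♯T = 4) (w : W ≤ T) (cW : ♯W = 2) :
    K ⊓ 𝐍 T ⊓ 𝐍 W ≤ 𝐂 T := fun x hx => by
  obtain ⟨y, z, hy, hz, py, pz, rfl⟩ := exists_piPart {2} x
  have h1 := zpowers_le.2 hx hy
  have h2 := zpowers_le.2 (zpowers_le.2 hx hz)
  have i := card_mul_relIndex w
  rw [c, cW] at i
  refine mul_mem (a (s.mem_of_norm h1.1.1 h1.1.2 py)) (zpowers_le.1 (cent_of_stable (N := W)
    (pz.zpowers.coprime' (s.pi.le w)) (CF.Loc.commutator_le_of_relIndex_two (by omega)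
    (h2.trans inf_le_right) (h2.trans (inf_le_left.trans inf_le_right)))
    (CF.Loc.le_centralizer_of_card_two cW (h2.trans inf_le_right))))

theorem abel_of_four (c : ♯T = 4) : Abel T :=
  have : Fact (Nat.Prime 2) := ⟨Nat.prime_two⟩
  Abel.of_comm ⟨⟨IsPGroup.commutative_of_card_eq_prime_sq (p := 2) c⟩⟩

theorem Smp.not_npc (s : Smp K) : ¬ NPC 2 K := fun h => by
  obtain ⟨T, t⟩ := exists_syl 2 K
  rcases s.eq_or (O_normal {2}ᶜ K) with e | e
  · have := (h.sdprod t).sup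
    rw [e, bot_sup_eq] at this
    exact s.not_sol (this ▸ t.pi.sol)
  · exact s.not_sol (sol_of_odd' (e ▸ O_pi _ K))

theorem Smp.irr_four (s : Smp K) (t : Syl 2 T K) (c : ♯T = 4) (w : W ≤ T) (n : K ⊓ 𝐍 T ≤ 𝐍 W) :
    W = ⊥ ∨ W = T := by
  have := card_dvd w
  rw [c] at this
  obtain ⟨i, hi, e⟩ := (Nat.dvd_prime_pow Nat.prime_two).1 (show ♯W ∣ 2 ^ 2 from this)
  interval_cases i
  · exact Or.inl (card_eq_one'.1 e)
  · exact absurd (t.burnside ((le_inf le_rfl n).trans (cent_of_four t (abel_of_four c) c w e)))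
      s.not_npc
  · exact Or.inr (eq_of_card_eq w (e.trans c.symm))

theorem Smp.abelem_four (s : Smp K) (t : Syl 2 T K) (c : ♯T = 4) : Abelem 2 T := by
  rw [← (s.irr_four t c (Om_le 2 T) (inf_le_right.trans (norm_Om 2 T))).resolve_left
    (t.pi.Om_ne_bot (s.syl_ne_bot t))]
  exact (abel_of_four c).abelem_Om Nat.prime_two

theorem cent1_four (s : Syl 2 T K) (a : Abelem 2 T) (c : ♯T = 4) (ht : t ∈ T) (t1 : t ≠ 1) :
    K ⊓ 𝐂₁ t = 𝐎 {2}ᶜ (K ⊓ 𝐂₁ t) ⊔ T := by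
  have s' := s.of_le (le_inf s.le (le_cent1_iff.2 (a.abel ht))) inf_le_left
  refine ((s'.burnside (le_trans ?_ (cent_of_four s a.abel c (zpowers_le.2 ht)
    (a.card_zpowers ht t1)))).sdprod s').sup.symm
  exact le_inf (inf_le_inf_right _ inf_le_left) (inf_le_left.trans (inf_le_right.trans
    (norm_of_cent (cent_zpowers t).ge)))

theorem abT_of_four [IsSimpleGroup G] (nc : ¬ IsMulCommutative G) (b : ¬ IsBender G) (s : Syl 2 T ⊤)
    (c : ♯T = 4) : AbT ⊤ T := by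
  have k := smp_top nc
  have a := k.abelem_four s c
  have t0 := k.syl_ne_bot s
  have h : ∀ t ∈ T, t ≠ 1 → ∃ O, PiGrp {2}ᶜ O ∧ T ≤ 𝐍 O ∧ 𝐂₁ t = O ⊔ T := fun t ht t1 => by
    have := cent1_four s a c ht t1
    rw [top_inf_eq] at this
    exact ⟨_, O_pi _ _, (le_cent1_iff.2 (a.abel ht)).trans (O_normal _ _).norm, this⟩
  refine ⟨s, a, by omega, fun W => k.irr_four s c, gen_of_Gm (Gm_eq_top b s a.abel t0
    (fun t ht t1 => ?_) fun e => b (CF.Bender.se_simple CF.Bender.part2 (se_of_ab s a.abel t0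
    (fun e => ?_) le_rfl fun t ht t1 => ?_)).1)⟩
  · obtain ⟨O, o, n, e⟩ := h t ht t1
    exact e.le.trans (sup_le (odd_norm_Gm s.pi o n) ((le_norm_self T).trans (norm_Gm T)))
  · rcases k.eq_or ⟨le_top, e.ge⟩ with e | e
    · exact t0 e
    · exact k.nab (e ▸ a.abel)
  · obtain ⟨O, o, n, e'⟩ := h t ht t1
    exact e'.le.trans (sup_le (norm_of_cent (comm_eq_bot.1 (eq_bot_mono e (le_Gm o n))))
      (le_norm_self T))

theorem gd_of_four [IsSimpleGroup G] (nc : ¬ IsMulCommutative G) (h3 : ¬ Inv 3 (⊤ : Subgroup G))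
    (h : ¬ 8 ∣ Nat.card G) : Gd G := by
  by_cases b : IsBender G
  · exact gd_of_suz (suz_of_bender b h3)
  obtain ⟨T, s⟩ := exists_syl 2 (⊤ : Subgroup G)
  refine Or.inr ⟨T, abT_of_four nc b s ?_⟩
  obtain ⟨i, e⟩ := s.pi.card_pow
  have k := smp_top nc
  have : i < 3 := by
    by_contra h1
    exact h ((pow_dvd_pow 2 (not_lt.1 h1)).trans (e ▸ card_subgroup_dvd_card T))
  interval_cases i
  · exact absurd (card_eq_one'.1 e) (k.syl_ne_bot s)
  · exact absurd (s.burnside (CF.Loc.le_centralizer_of_card_two e inf_le_right)) k.not_npc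
  · exact e

theorem involves_or {X : Type*} [Group X] [IsSimpleGroup X] (n : N ⊴ H) (h : Involves X H) :
    Involves X N ∨ Involves X (qt N H) := by
  obtain ⟨K, f, hf⟩ := involves_iff.1 h
  have := n.normal
  let R : Subgroup K := (N.subgroupOf H).subgroupOf K
  rcases (Subgroup.Normal.map (inferInstance : R.Normal) f hf).eq_bot_or_eq_top with e | e
  · refine Or.inr (CF.PLocal.involves_of_ker_le ((qtHom n.norm).comp K.subtype) f hf ?_)
    rw [← MonoidHom.comap_ker, qtHom_ker]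
    exact (Subgroup.map_eq_bot_iff _).1 e
  · left
    refine involves_trans (involves_of_surjective (f.comp R.subtype) fun x => ?_)
      (involves_of_injective ((H.subtype.comp (K.subtype.comp R.subtype)).codRestrict N fun x => x.2)
        fun x y e => Subtype.ext (Subtype.ext (Subtype.ext (congrArg (fun z : N => (z : G)) e))))
    obtain ⟨y, hy, rfl⟩ := e.ge (mem_top x)
    exact ⟨⟨y, hy⟩, rfl⟩

theorem exists_factor {X : Type*} [Group X] [Finite X] [IsSimpleGroup X] (H : Subgroup G) : Involves X H →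
    ∃ K N, SubN K H ∧ N ⊴ K ∧ IsSimpleGroup (qt N K) ∧ Involves X (qt N K) := by
  induction H using card_induction with | _ H ih
  intro h
  have h0 : ⊥ < H := bot_lt_iff_ne_bot.2 fun e => by
    have := involves_card_dvd h
    rw [e, card_bot, Nat.dvd_one] at this
    exact (Finite.one_lt_card (α := X)).ne' this
  obtain ⟨N, -, c⟩ := exists_chief_below (NormalIn.refl H) h0 (NormalIn.bot H).norm
  rcases involves_or c.normalV h with i | i
  · obtain ⟨K, M, a, b⟩ := ih N (card_lt c.lt) i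
    exact ⟨K, M, a.trans c.normalV.subN, b⟩
  refine ⟨H, N, (NormalIn.refl H).subN, c.normalV, ?_, i⟩
  have : Nontrivial (qt N H) := (nontrivial_iff_ne_bot _).2 c.minN.ne_bot
  refine ⟨fun Y n => ?_⟩
  have n' := normal_iff_map_subtype.1 n
  exact (c.minN.eq_bot_or n'.le n'.norm).imp
    (fun e => map_injective (subtype_injective _) (e.trans (Subgroup.map_bot _).symm))
    fun e => map_injective (subtype_injective _) (e.trans (map_top_subtype _).symm)

theorem not_comm_of_involves {X Y : Type*} [Group X] [Group Y] (h : Involves X Y)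
    (c : ¬ IsMulCommutative X) : ¬ IsMulCommutative Y := fun k => c ⟨⟨fun x y => by
  obtain ⟨K, f, hf⟩ := involves_iff.1 h
  obtain ⟨a, rfl⟩ := hf x
  obtain ⟨b, rfl⟩ := hf y
  rw [← map_mul, ← map_mul]
  exact congrArg f (Subtype.ext (k.1.1 _ _))⟩⟩

theorem suz_sec {Y : Type*} [Group Y] [IsSimpleGroup G] (nc : ¬ IsMulCommutative G)
    (h : Lie.IsoSuzuki Y) (i : Involves G Y) :
    ∃ (F : Type) (_ : Field F) (_ : Finite F) (T : Tits F), 2 < Nat.card F ∧ Nonempty (SzData T G) := by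
  obtain ⟨F, _, _, T, -, ⟨D⟩⟩ := exists_szData h
  obtain ⟨K, f, hf⟩ := involves_iff.1 i
  rcases D.isSolvable_or_eq_sub K with s | ⟨g, E, hE, rfl⟩
  · have := Group.isSolvable_of_surjective hf
    exact absurd (IsSimpleGroup.comm_iff_isSolvable.2 this) fun c => nc ⟨⟨c⟩⟩
  have := (D.conj g).isSimpleGroup_sub hE
  obtain ⟨D'⟩ := (D.conj g).nonempty_subData E
  refine ⟨E, _, inferInstance, _, hE, ⟨D'.ofEquiv (MulEquiv.ofBijective f ⟨?_, hf⟩).symm⟩⟩
  refine (MonoidHom.ker_eq_bot_iff _).1 (f.normal_ker.eq_bot_or_eq_top.resolve_right fun e => ?_)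
  obtain ⟨x, hx⟩ := exists_ne (1 : G)
  obtain ⟨y, rfl⟩ := hf x
  exact hx (e.ge (mem_top y))

theorem not_eight_dvd {F : Type*} [Field F] [Fintype F] (h : Fintype.card F % 8 = 3 ∨
    Fintype.card F % 8 = 5) : ¬ 8 ∣ Nat.card (Matrix.ProjectiveSpecialLinearGroup (Fin 2) F) := by
  have h1 := CF.Classical.card_PSL_two (F := F)
  generalize Fintype.card F = q at h h1
  rintro ⟨m, hm⟩
  rw [hm, Nat.gcd_eq_left (by omega : 2 ∣ q - 1)] at h1
  have h2 : q * q ^ 2 = 2 * (8 * m) + q := by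
    rw [h1, Nat.mul_sub_one, Nat.sub_add_cancel (Nat.le_mul_of_pos_right _ (by
      rcases h with h | h <;> exact pow_pos (by omega) _))]
  have h3 : (q * q ^ 2) % 16 = q % 16 := by omega
  have h4 : q % 16 = 3 ∨ q % 16 = 11 ∨ q % 16 = 5 ∨ q % 16 = 13 := by omega
  rw [Nat.mul_mod, Nat.pow_mod] at h3
  rcases h4 with e | e | e | e <;> simp [e] at h3

theorem fr3_top (h3 : ¬ Inv 3 (⊤ : Subgroup G))
    (hc : IsCompositionKGroupWith IsSuzukiOrPSL2OddPowerThree G) : Fr3 (⊤ : Subgroup G) := by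
  refine ⟨h3, fun X _ _ s nc i => ?_⟩
  obtain ⟨K, N, a, n, s', i'⟩ := exists_factor ⊤ i
  have := n.normal
  obtain ⟨e⟩ := qt_iso_quotient n.norm
  have i2 := involves_trans i' (involves_of_equiv e.symm)
  rcases hc K (subN_top_iff.1 a) _ e.symm.isSimpleGroup (not_comm_of_involves i2 nc) with
    h | ⟨F, _, _, m, hF, ⟨f⟩⟩
  · obtain ⟨F, _, _, T, h, ⟨D⟩⟩ := suz_sec nc h i2
    exact gd_sz D h
  refine gd_of_four nc (fun h => h3 ?_) fun h => not_eight_dvd (F := F) (Or.inl ?_)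
    (Nat.card_congr f.toEquiv ▸ h.trans (involves_card_dvd i2))
  · exact CF.Loc.involves_S3_iff.1 (involves_trans (CF.Loc.involves_S3_iff.2 h)
      (involves_trans i (involves_subgroup _)))
  · rw [hF, pow_succ, pow_mul, Nat.mul_mod, Nat.pow_mod]; simp

theorem Fr3.of_top (h : Fr3 (⊤ : Subgroup H)) : Fr3 H :=
  ⟨fun i => h.inv (CF.Loc.inv_top_iff.2 i), fun X _ _ s c i =>
    h.gd X s c (involves_trans i (involves_of_equiv topEquiv))⟩

end CF.Sig
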