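/-
`S₄`-free groups, part G: the main centralizing lemma.
-/
import Cfsg.Agent.Sig.S4F
set_option autoImplicit false
set_option linter.unusedSectionVars false

namespace CF.Sig
open Subgroup Cfsg CF.BG
open CF.PLocal (maxAb thompson_le thompson_le_iff thompson_eq_of_le le_thompson
  normalizer_le_normalizer_thompson)
open scoped commutatorElement Pointwise

universe u
variable {G : Type u} [Group G]

/-- hypotheses of the main lemma -/
structure S4H (H S V : Subgroup G) : Prop where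
  fr : Fr3 H
  syl : Syl 2 S H
  le : V ≤ 𝐎 {2} H
  norm : S ≤ 𝐍 V
  ab : Abelem 2 V
  i1 : I1 V S

/-- a minimal counterexample to the main lemma -/
structure S4M (H S V : Subgroup G) : Prop extends S4H H S V where
  ih : ∀ K : Subgroup G, ♯K < ♯H → ∀ T W, S4H K T W → orbJ K W ≤ 𝐂 (𝐉 2 T)
  nc : ¬ orbJ H V ≤ 𝐂 (𝐉 2 S)

variable [Finite G] {A B C D E F H K L M N O P Q R S T U V W X Y Z : Subgroup G} {k : ℕ} {x y g a : G}

theorem syl_sup {p : ℕ} (t : Syl p T F) (r : PiGrp {p} R) (l : T ≤ R) (n : R ≤ 𝐍 F) :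
    Syl p R (F ⊔ R) :=
  ⟨le_sup_right, r, by rw [relIndex_sup_norm (Or.inr n)]; exact t.idx_of_le l⟩

theorem orbJ_mono (h : K ≤ H) (V : Subgroup G) : orbJ K V ≤ orbJ H V :=
  orbJ_le_iff.2 fun _ hx => cj_le_orbJ (h hx) V

theorem orbJ_le_of_norm (n : H ≤ 𝐍 N) (h : V ≤ N) : orbJ H V ≤ N :=
  orbJ_le_iff.2 fun _ hx => cj_le_of_norm (n hx) h

theorem S4H.U_le (h : S4H H S V) : orbJ H V ≤ 𝐎 {2} H := orbJ_le_of_norm (O_normal _ H).norm h.le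

theorem S4H.U_le_S (h : S4H H S V) : orbJ H V ≤ S := h.U_le.trans h.syl.O_le

theorem S4H.abU (h : S4H H S V) : Abelem 2 (orbJ H V) := by
  have l : ∀ x ∈ H, ∀ y ∈ H, cj x V ≤ cj y S := fun x hx y hy =>
    ((cj_le_orbJ hx V).trans h.U_le).trans (h.syl.cj_of_mem hy).O_le
  have a : Abel (orbJ H V) := orbJ_le_iff.2 fun x hx => cent_symm (orbJ_le_iff.2 fun y hy =>
    (h.i1.cj x).i2.cent (h.i1.cj y).i2 (h.ab.cj x) (h.ab.cj y) (l y hy x hx) (l x hx y hy))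
  exact (a.abelem_Om Nat.prime_two).le (orbJ_le_iff.2 fun x hx => (h.ab.cj x).le_Om (cj_le_orbJ hx V))

theorem S4H.J_le (h : S4H H S V) : 𝐉 2 S ≤ 𝐂 V := h.i1.i2.J_le (h.le.trans h.syl.O_le) h.ab

namespace S4M
variable (h : S4M H S V)
include h

theorem proper (a : S ≤ M) (b : M ≤ H) (c : ¬ H ≤ M) : orbJ M V ≤ 𝐂 (𝐉 2 S) :=
  h.ih M (card_lt (lt_of_le_of_ne b fun e => c e.ge)) S V ⟨h.fr.mono b, h.syl.of_le a b,
    h.le.trans (O_le_O_of_le b (h.syl.O_le.trans a)), h.norm, h.ab, h.i1⟩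

theorem J_not_le : ¬ 𝐉 2 S ≤ 𝐎 {2} H := fun e => h.nc (cent_symm (cent_orbJ_of (by
  rw [← thompson_eq_of_le e h.syl.O_le]
  exact (O_normal _ H).norm.trans (normalizer_le_normalizer_thompson 2 _)) h.J_le))

theorem red0 (n : F ⊴ H) : S ⊓ F ≤ 𝐎 {2} H ∨ H ≤ F ⊔ S := by
  by_contra c
  rw [not_or] at c
  have t := h.syl.inf_normal n
  have nT : S ≤ H ⊓ 𝐍 (S ⊓ F) := le_inf h.syl.le (norm_inf (le_norm_self S) (h.syl.le.trans n.norm))
  have h1 := h.proper nT inf_le_left fun e => c.1 (le_O ⟨inf_le_left.trans h.syl.le,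
    e.trans inf_le_right⟩ t.pi)
  refine h.nc (orbJ_le_iff.2 fun g hg => ?_)
  obtain ⟨f, hf, m, hm, rfl⟩ := t.syl_frattini n hg
  have l : S ⊓ F ⊔ (𝐉 2 S ⊔ orbJ H V) ≤ S := sup_le inf_le_left (sup_le (thompson_le 2 S) h.U_le_S)
  have l1 : F ⊔ (S ⊓ F ⊔ (𝐉 2 S ⊔ orbJ H V)) ≤ F ⊔ S := sup_le_sup_left l F
  have l2 : F ⊔ S ≤ H := sup_le n.le h.syl.le
  have lU : cj m V ≤ orbJ H V := cj_le_orbJ hm.1 V
  have n1 : S ⊓ F ≤ 𝐍 (cj m V) := by
    rw [← cj_norm, ← cj_of_norm hm.2]; exact cj_mono m (inf_le_left.trans h.norm)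
  have c1 : 𝐉 2 S ⊔ orbJ H V ≤ 𝐂 (cj m V) :=
    sup_le (cent_symm ((cj_le_orbJ hm V).trans h1)) (h.abU.abel.cent le_rfl lU)
  have j := (h.i1.mono (inf_le_left : S ⊓ F ≤ S)).cj m
  rw [cj_of_norm hm.2] at j
  have := h.ih _ (card_lt (l1.trans_lt (lt_of_le_of_ne l2 fun e => c.2 e.ge))) _ (cj m V)
    ⟨h.fr.mono (l1.trans l2), syl_sup t (h.syl.pi.le l) le_sup_left (l.trans (h.syl.le.trans n.norm)),
      lU.trans (le_O ⟨le_sup_of_le_right (le_sup_of_le_right le_sup_right), (l1.trans l2).trans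
        (norm_orbJ H V)⟩ h.abU.pi), sup_le n1 (norm_of_cent c1), h.ab.cj m,
      (j.sup_cent n1).mono (sup_le_sup_left c1 _)⟩
  rw [thompson_eq_of_le (le_sup_of_le_right le_sup_left) l] at this
  rw [← cj_cj]
  exact (cj_le_orbJ (mem_sup_left hf) _).trans this

theorem not_le_M (n : D ⊴ H) (c : ¬ H ≤ D ⊔ S) : ¬ H ≤ D ⊔ (H ⊓ 𝐂 V ⊔ S) := fun e =>
  h.nc (le_trans (orbJ_le_iff.2 fun g hg => by
    have l : H ⊓ 𝐂 V ⊔ S ≤ H := sup_le inf_le_left h.syl.le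
    obtain ⟨d, hd, m, hm, rfl⟩ := (mem_sup_norm' (l.trans n.norm)).1 (e hg)
    rw [← cj_cj, cj_of_norm ((sup_le (norm_of_cent inf_le_right) h.norm : _ ≤ 𝐍 V) hm)]
    exact cj_le_orbJ (mem_sup_left hd) V) (h.proper le_sup_right (sup_le n.le h.syl.le) c))

theorem fin (n : D ⊴ H) (q : Syl 2 (𝐎 {2} H) D) (hA : A ∈ maxAb 2 S) {B' L' : Subgroup (Quo D)}
    (d : DT k (qt D A) B' L') (l : L' ≤ qt D H) : L' ≤ qt D (H ⊓ 𝐂 V ⊔ S) := by
  have aH := hA.1.trans h.syl.le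
  have a := abelem_of_maxAb Nat.prime_two hA
  have r := d.qp (aH.trans n.norm)
  have l1 : qp D L' ≤ H := qp_le_of_le_qt n l
  generalize A ⊓ qp D B' = B at r
  have lS : 𝐎 {2} H ⊔ B ≤ S := sup_le h.syl.O_le (r.le.trans hA.1)
  have s := syl_sup q (h.syl.pi.le lS) le_sup_left (lS.trans (h.syl.le.trans n.norm))
  rw [← sup_assoc, sup_eq_left.2 q.le] at s
  obtain ⟨L₀, g0, hX, e⟩ := r.gn.lift (X := 𝐍 (𝐎 {2} H ⊔ B)) r.norm a.pi (norm_sup (aH.trans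
    (O_normal _ H).norm) (a.abel.le_norm r.le)) fun g hg => by
      obtain ⟨x, hx, y, hy, e⟩ := s.syl_frattini ⟨sup_le r.d_le (r.le.trans r.le_L), r.norm_sup⟩
        (inv_mem hg)
      exact ⟨y⁻¹, inv_mem hy, x⁻¹, inv_mem (sup_le_sup_left r.le D hx), by
        rw [← mul_inv_rev, e, inv_inv]⟩
  have l0 : L₀ ≤ H := (e ▸ le_sup_right : L₀ ≤ qp D L').trans l1
  have := count hA g0 r.pos h.syl.pi lS hX r.le le_sup_right r.idx h.norm h.i1
    (h.abU.le (orbJ_mono l0 V)) ((orbJ_mono l0 V).trans h.U_le_S)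
  rw [← qt_qp (K := D) L', ← e, qt_sup_left (l0.trans n.norm)]
  exact qt_mono D (le_sup_of_le_left (le_inf l0 this))

theorem caseA : ¬ H ≤ qp (𝐎 {2} H) (𝐎 {2}ᶜ (qt (𝐎 {2} H) H)) ⊔ S := fun e => by
  have nQ := O_normal {2} H
  obtain ⟨A, hA, c⟩ : ∃ A ∈ maxAb 2 S, ¬ A ≤ 𝐎 {2} H := by
    by_contra c
    push Not at c
    exact h.J_not_le (thompson_le_iff.2 c)
  have aH := hA.1.trans h.syl.le
  have l : H ⊓ 𝐂 V ⊔ S ≤ H := sup_le inf_le_left h.syl.le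
  have hM := h.not_le_M nQ fun e => h.J_not_le (((thompson_le 2 S).trans h.syl.le).trans
    (O_of_pi (h.syl.pi.le (e.trans (sup_le h.syl.O_le le_rfl)))).ge)
  have nF := (O_normal {2}ᶜ (qt (𝐎 {2} H) H)).norm
  obtain ⟨B, L, d, l', c'⟩ := D_odd (M := qt (𝐎 {2} H) (H ⊓ 𝐂 V ⊔ S)) (h.fr.qt nQ.norm).inv
    ((abelem_of_maxAb Nat.prime_two hA).qt _) (O_pi _ _) ((qt_mono _ aH).trans nF) (qt_mono _ aH)
    (O_le _ _) fun e' => by
      have e1 := qt_mono (𝐎 {2} H) e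
      rw [qt_sup (qp_le_norm _) (h.syl.le.trans nQ.norm), qt_qp, sup_comm] at e1
      have l1 : orbJ H A ≤ 𝐎 {2} H ⊔ (H ⊓ 𝐂 V ⊔ S) := orbJ_le_iff.2 fun g hg => by
        rw [← qt_le_qt_iff ((cj_le_of_mem hg aH).trans nQ.norm) (l.trans nQ.norm), qt_cj (nQ.norm hg)]
        obtain ⟨s, hs, f, hf, e2⟩ := (mem_sup_norm ((qt_mono _ h.syl.le).trans nF)).1
          (e1 (qe_mem_qt hg (nQ.norm hg)))
        rw [← e2, ← cj_cj]
        refine cj_le_of_mem (qt_mono _ le_sup_right hs) fun y hy => ?_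
        obtain ⟨z, hz, rfl⟩ := mem_cj_iff.1 hy
        have := mul_mem (e' (commutator_mem_commutator hf hz)) (qt_mono _ (hA.1.trans le_sup_right) hz)
        rwa [commutatorElement_def, inv_mul_cancel_right] at this
      rcases h.red0 ⟨orbJ_le_of_norm (le_norm_self H) aH, norm_orbJ H A⟩ with e2 | e2
      · exact c ((le_inf hA.1 (le_orbJ H A)).trans e2)
      · exact hM (e2.trans (sup_le l1 (le_sup_of_le_right le_sup_right)))
  exact c' (h.fin nQ (Hall.refl (O_pi _ H)) hA d (l'.trans (sup_le (O_le _ _) (qt_mono _ aH))))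

theorem caseB (hF : F = qp (𝐎 {2} H) (𝐎 {2}ᶜ (qt (𝐎 {2} H) H))) : False := by
  have nQ := O_normal {2} H
  have nF : F ⊴ H := hF ▸ (O_normal _ _).qp_of_qt nQ
  have cF : ¬ H ≤ F ⊔ S := hF ▸ h.caseA
  have q : Syl 2 (𝐎 {2} H) F := ⟨hF ▸ le_qp _, O_pi _ _, by rw [hF, relIndex_qp]; exact O_pi _ _⟩
  have sF := h.syl.le.trans nF.norm
  have odd : ∀ Y, Y ⊴ H → PiGrp {2}ᶜ (qt (𝐎 {2} H) Y) → Y ≤ F := fun Y n o =>
    hF ▸ (qt_le_iff (n.le.trans nQ.norm)).1 (le_O (n.qt _) o)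
  have red : ∀ X, X ⊴ qt F H → X = ⊥ ∨ qt F H ≤ X ⊔ qt F S := fun X n => by
    have n' := n.qp_of_qt nF
    refine (h.red0 n').imp (fun e => qp_eq_self.1 (le_antisymm (odd _ n' ?_) (le_qp X))) fun e => ?_
    · have := (h.syl.inf_normal n').qt (n'.le.trans nQ.norm)
      rw [qt_of_le e] at this
      exact this.pi'_of_eq_bot
    · have := qt_mono F e
      rwa [qt_sup (qp_le_norm X) sF, qt_qp] at this
  have s := h.syl.qt nF.norm
  have hF0 : 𝐅 (qt F H) = ⊥ := by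
    rw [F_eq_O_of (p := 2)]
    · refine (red _ (O_normal _ _)).resolve_right fun e => cF ?_
      exact (qt_le_qt_iff nF.norm sF).1 (e.trans (sup_le s.O_le le_rfl))
    have n' := (O_normal {2}ᶜ (qt F H)).qp_of_qt nF
    refine qp_eq_self.1 (le_antisymm (odd _ n' ((piGrp_qt_iff (n'.le.trans nQ.norm)).2 ?_)) (le_qp _))
    rw [← relIndex_mul_relIndex _ _ _ q.le (le_qp _), relIndex_qp]
    exact q.idx.mul (O_pi _ _)
  have l : H ⊓ 𝐂 V ⊔ S ≤ H := sup_le inf_le_left h.syl.le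
  have sM : qt F S ≤ qt F (H ⊓ 𝐂 V ⊔ S) := qt_mono F le_sup_right
  have kM : ∀ K, Comp K (qt F H) → ¬ K ≤ qt F (H ⊓ 𝐂 V ⊔ S) := fun K k e => by
    have n1 := s.le.trans (le_norm_self _)
    have h1 := (red _ (Lay_normal _)).resolve_left (ne_bot_mono k.ne_bot k.le_Lay)
    have h2 := (red (orbJ (qt F S) K) ⟨(k.orbJ_le n1).trans (Lay_le _), h1.trans (sup_le
      (k.Lay_norm_orbJ n1) (norm_orbJ _ _))⟩).resolve_left (ne_bot_mono k.ne_bot (le_orbJ _ _))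
    exact h.not_le_M nF cF ((qt_le_qt_iff nF.norm (l.trans nF.norm)).1 (h2.trans (sup_le
      (orbJ_le_of_norm (norm_of_le sM) e) sM)))
  have fr := h.fr.qt nF.norm
  have ab : ∀ A ∈ maxAb 2 S, Abelem 2 (qt F A) := fun A hA => (abelem_of_maxAb Nat.prime_two hA).qt F
  have key : ∀ A ∈ maxAb 2 S, ∀ K, Comp K (qt F H) → ¬ qt F A ≤ 𝐂 K →
      AbT K (qt F S ⊓ K) ∧ qt F A ≤ qt F S ⊓ K ⊔ 𝐂 K := fun A hA K k c => by
    have a1 := qt_mono F hA.1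
    refine (DK fr (k.smp hF0) (ab A hA) (a1.trans s.le) k.le (fun x hx => k.cj_cent (s.le (a1 hx)))
      (k.syl_inf s) (norm_inf (norm_of_le (inf_le_left.trans a1)) inf_le_right)
      (inf_le_left.trans sM) (kM K k) c).resolve_left ?_
    rintro ⟨k, B, L, d, l, c⟩
    exact c (h.fin nF q hA d l)
  have jle : ∀ X, (∀ A ∈ maxAb 2 S, qt F A ≤ X) → qt F (𝐉 2 S) ≤ X := fun X hX =>
    (qt_le_iff ((thompson_le 2 S).trans sF)).2 (thompson_le_iff.2 fun A hA =>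
      (qt_le_iff (hA.1.trans sF)).1 (hX A hA))
  have jS := qt_mono F (thompson_le 2 S)
  obtain ⟨K, k, A, hA, c⟩ : ∃ K, Comp K (qt F H) ∧ ∃ A ∈ maxAb 2 S, ¬ qt F A ≤ 𝐂 K := by
    by_contra c
    push Not at c
    have := le_F_of_cent (jS.trans s.le) (by rw [hF0]; exact comm_eq_bot.1 (commutator_bot_right _))
      fun K k => jle _ (c K k)
    rw [hF0, le_bot_iff, qt_eq_bot ((thompson_le 2 S).trans sF)] at this
    exact h.J_not_le (q.le_normal (nF.le.trans nQ.norm) this (h.syl.pi.le (thompson_le 2 S)))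
  have b := (key A hA K k c).1
  have lA : ∀ A ∈ maxAb 2 S, qt F A ≤ qt F S ⊓ K ⊔ 𝐂 K := fun A hA => by
    by_cases c : qt F A ≤ 𝐂 K
    · exact le_sup_of_le_right c
    · exact (key A hA K k c).2
  have tS : qt F S ⊓ K ≤ qt F S := inf_le_left
  generalize qt F S ⊓ K = T at b lA tS
  have cT : T ⊔ 𝐂 K ≤ 𝐂 T := sup_le b.ab.abel (cent_anti b.syl.le)
  have nC : T ≤ 𝐍 (𝐂 K) := norm_cent (norm_of_le b.syl.le)
  have nJ : K ⊓ 𝐍 T ≤ 𝐍 (qt F (𝐉 2 S)) := by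
    have n1 : K ⊓ 𝐍 T ≤ 𝐍 (qt F S ⊓ (T ⊔ 𝐂 K)) := by
      rw [inf_sup_left tS (Or.inl nC)]
      exact norm_sup inf_le_right (norm_of_cent (inf_le_left.trans (cent_symm inf_le_right)))
    generalize hY : qt F S ⊓ (T ⊔ 𝐂 K) = Y at n1
    have yS : Y ≤ qt F S := hY ▸ inf_le_left
    have l1 : qp F Y ≤ F ⊔ S := by rw [← qp_qt sF]; exact qp_mono yS
    have s1 : Syl 2 (S ⊓ qp F Y) (qp F Y) := by
      have := syl_sup q (h.syl.pi.le (inf_le_left : S ⊓ qp F Y ≤ S)) (le_inf h.syl.O_le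
        (q.le.trans (le_qp Y))) (inf_le_left.trans sF)
      rwa [← sup_inf_left (le_qp Y) (Or.inr sF), inf_eq_right.2 l1] at this
    have := qt_mono F (s1.syl_frattini_sup (normalIn_sup_left n1).qp).ge
    rw [qt_qp, qt_sup (qp_le_norm _) (inf_le_left.trans (qp_le_norm _)), qt_qp] at this
    refine (le_sup_right.trans this).trans (sup_le (yS.trans (qt_norm F ((le_norm_self S).trans
      (normalizer_le_normalizer_thompson 2 S)))) (qt_norm F (inf_le_right.trans ?_)))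
    rw [← thompson_eq_of_le (Q := S ⊓ qp F Y) (le_inf (thompson_le 2 S) ((qt_le_iff ((thompson_le 2
      S).trans sF)).1 (hY ▸ le_inf jS (jle _ lA)))) inf_le_left]
    exact normalizer_le_normalizer_thompson 2 _
  have tJ : T ≤ qt F (𝐉 2 S) ⊔ 𝐂 K := by
    refine inf_eq_left.1 ((b.irr _ inf_le_left (norm_inf inf_le_right (norm_sup nJ (norm_cent
      (norm_of_le inf_le_left))))).resolve_left fun e => c ?_)
    have := sup_inf_right (A := T) (le_sup_right : 𝐂 K ≤ qt F (𝐉 2 S) ⊔ 𝐂 K) (Or.inl nC)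
    rw [e, bot_sup_eq] at this
    exact (le_inf (lA A hA) (le_sup_of_le_left (qt_mono F (le_thompson hA)))).trans this.le
  obtain ⟨O, hO, o, nO, c1⟩ : ∃ O, O ≤ K ∧ PiGrp {2}ᶜ O ∧ T ≤ 𝐍 O ∧
      ¬ ⁅O, T⁆ ≤ qt F (H ⊓ 𝐂 V ⊔ S) := by
    by_contra h3
    push Not at h3
    exact kM K k (b.gen _ h3)
  have cO : 𝐂 K ≤ 𝐂 O := cent_anti hO
  have n2 : T ⊔ 𝐂 K ≤ 𝐍 O := sup_le nO (norm_of_cent cO)
  obtain ⟨Y, -, ⟨y1, y2⟩, ym⟩ := exists_maximal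
    (P := fun Y => Y ≤ qt F (H ⊓ 𝐂 V ⊔ S) ∧ T ⊔ 𝐂 K ≤ 𝐍 Y) (H := ⊥) ⟨bot_le, (NormalIn.bot _).norm⟩
  refine c1 (le_trans ?_ y1)
  rw [commutator_comm]
  refine (le_centMod.1 (tJ.trans (sup_le (jle _ fun A hA => le_centMod.2 ⟨(lA A hA).trans y2, ?_⟩)
    (le_centMod.2 ⟨le_sup_right.trans y2, (comm_eq_bot.2 cO).le.trans bot_le⟩)))).2
  have nA := (lA A hA).trans n2
  have a1 := (qt_mono F hA.1).trans s.le
  rw [commutator_comm]
  refine le_sup_right.trans (ym _ ⟨sup_le y1 ?_, norm_sup y2 (sup_le (norm_commutator nO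
    (norm_of_cent (cent_symm ((lA A hA).trans cT)))) (norm_of_cent (cent_mono cO le_rfl
    (comm_le_left nA))))⟩ le_sup_left).le
  by_contra c2
  obtain ⟨B, L, d, l', c'⟩ := D_odd fr.inv (ab A hA) o nA a1 (hO.trans k.le) c2
  exact c' (h.fin nF q hA d (l'.trans (sup_le (hO.trans k.le) a1)))

end S4M

theorem S4H.main (h : S4H H S V) : orbJ H V ≤ 𝐂 (𝐉 2 S) := by
  induction H using card_induction generalizing S V with | _ H ih
  by_contra c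
  exact S4M.caseB ⟨h, fun K k _ _ => ih K k, c⟩ rfl

theorem Fr3.le_O (h : Fr3 H) (c : H ⊓ 𝐂 (𝐎 {2} H) ≤ 𝐎 {2} H) (s : Syl 2 S H) (v : V ⊴ S)
    (a : Abelem 2 V) (j : I1 V S) : V ≤ 𝐎 {2} H := by
  by_contra c1
  have nQ := O_normal {2} H
  have vH := v.le.trans s.le
  have vQ := vH.trans nQ.norm
  obtain ⟨k, B', L', d, l, c'⟩ := (h.qt nQ.norm).hd (O_qt_O _ H) _ (qt_mono _ vH) (a.qt _)
    fun e => c1 ((qt_eq_bot vQ).1 e)
  have r := d.qp vQ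
  obtain ⟨L₀, g0, hX, e⟩ := r.gn.lift (X := qp _ L') r.norm a.pi r.le_L fun g hg =>
    ⟨g, ⟨hg, hg⟩, 1, one_mem _, (mul_one g).symm⟩
  have lS := sup_le s.O_le (r.le.trans v.le)
  have l0 := hX.trans (qp_le_of_le_qt nQ l)
  have := g0.step1 r.pos a (s.pi.le lS) (hX.trans r.norm_sup) (lS.trans v.norm) (j.mono lS)
    (r.idx ▸ relIndex_le_of_le_left le_sup_right (relIndex_ne_zero' _ _))
  have := qt_mono (𝐎 {2} H) (g0.le_sup (l0.trans nQ.norm) fun x hx o =>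
    c ⟨l0 hx, cent_anti le_sup_left (this x hx o)⟩)
  rw [qt_sup_left vQ, ← qt_sup_left (l0.trans nQ.norm), e, qt_qp] at this
  exact c' this

theorem Fr3.main (h : Fr3 H) (c : H ⊓ 𝐂 (𝐎 {2} H) ≤ 𝐎 {2} H) (s : Syl 2 S H) (v : V ⊴ S)
    (a : Abelem 2 V) (j : I1 V S) : V ≤ 𝐂 (orbJ H (𝐉 2 S)) :=
  cent_symm (orbJ_le_iff.2 fun g hg => by
    rw [cj_le_iff, cj_cent]
    exact cent_symm ((cj_le_orbJ (inv_mem hg) V).trans (S4H.main ⟨h, s, h.le_O c s v a j, v.norm, a, j⟩)))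

end CF.Sig
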