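import Cfsg.Agent.Sig.Amb

/-! The diagonal subgroup `{l l^x}` of `L L^x`. -/

open Subgroup Cfsg CF.BG
open scoped commutatorElement Pointwise

namespace CF.Sig

variable {G : Type*} [Group G] {x : G} {L : Subgroup G}

/-- The diagonal homomorphism `l ↦ l l^x`. -/
def dgHom (x : G) (L : Subgroup G) (c : L ≤ 𝐂 (cj x L)) : L →* G where
  toFun l := (l : G) * (x * l * x⁻¹)
  map_one' := by simp
  map_mul' l m := by
    have h : (x * l * x⁻¹) * m = m * (x * l * x⁻¹) :=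
      mem_cent.1 (c m.2) _ (conj_mem_cj.2 l.2)
    simp only [coe_mul]
    calc (l : G) * m * (x * (l * m) * x⁻¹) = l * (m * (x * l * x⁻¹)) * (x * m * x⁻¹) := by group
      _ = l * ((x * l * x⁻¹) * m) * (x * m * x⁻¹) := by rw [h]
      _ = _ := by group

theorem dgHom_apply (c : L ≤ 𝐂 (cj x L)) (l : L) : dgHom x L c l = (l : G) * (x * l * x⁻¹) := rfl

theorem mem_dg (c : L ≤ 𝐂 (cj x L)) {y : G} :
    y ∈ (dgHom x L c).range ↔ ∃ l ∈ L, y = l * (x * l * x⁻¹) := by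
  constructor
  · rintro ⟨l, rfl⟩; exact ⟨l, l.2, rfl⟩
  · rintro ⟨l, hl, rfl⟩; exact ⟨⟨l, hl⟩, rfl⟩

theorem dg_closure (c : L ≤ 𝐂 (cj x L)) :
    closure {y : G | ∃ l ∈ L, y = l * (x * l * x⁻¹)} = (dgHom x L c).range := by
  have : {y : G | ∃ l ∈ L, y = l * (x * l * x⁻¹)} = ((dgHom x L c).range : Set G) := by
    ext y; exact (mem_dg c).symm
  rw [this, closure_eq]

theorem dg_le (c : L ≤ 𝐂 (cj x L)) : (dgHom x L c).range ≤ L ⊔ cj x L := by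
  intro y hy
  obtain ⟨l, hl, rfl⟩ := (mem_dg c).1 hy
  exact mul_mem_sup hl (conj_mem_cj.2 hl)

theorem sup_dg (c : L ≤ 𝐂 (cj x L)) : (dgHom x L c).range ⊔ L = L ⊔ cj x L := by
  refine le_antisymm (sup_le (dg_le c) le_sup_left) (sup_le le_sup_right ?_)
  intro y hy
  obtain ⟨l, hl, rfl⟩ := mem_cj_iff.1 hy
  have : x * l * x⁻¹ = l⁻¹ * (l * (x * l * x⁻¹)) := by group
  rw [this]
  exact mul_mem (mem_sup_right (inv_mem hl)) (mem_sup_left ((mem_dg c).2 ⟨l, hl, rfl⟩))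

theorem dg_norm (c : L ≤ 𝐂 (cj x L)) : (dgHom x L c).range ≤ 𝐍 L :=
  (dg_le c).trans (sup_le (le_norm_self L) (norm_of_cent' c))

theorem dg_cent1 (c : L ≤ 𝐂 (cj x L)) (hx : x * x = 1) : (dgHom x L c).range ≤ 𝐂₁ x := by
  intro y hy
  obtain ⟨l, hl, rfl⟩ := (mem_dg c).1 hy
  have h : (x * l * x⁻¹) * l = l * (x * l * x⁻¹) := mem_cent.1 (c hl) _ (conj_mem_cj.2 hl)
  have hi : x⁻¹ = x := inv_eq_of_mul_eq_one_right hx
  rw [mem_cent1, ← h, hi]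
  have h2 : x * (x * l * x * l) = (x * x) * (l * x * l) := by group
  rw [h2, hx]
  have h' : x * l * x * l = l * (x * l * x) := by rw [hi] at h; exact h
  calc x * l * x * l * x = l * (x * l * x) * x := by rw [h']
    _ = l * x * l * (x * x) := by group
    _ = _ := by rw [hx]; group

theorem dg_perfect (c : L ≤ 𝐂 (cj x L)) (hp : ⁅L, L⁆ = L) :
    ⁅(dgHom x L c).range, (dgHom x L c).range⁆ = (dgHom x L c).range := by
  have ht : ⁅(⊤ : Subgroup L), (⊤ : Subgroup L)⁆ = ⊤ := by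
    apply map_injective L.subtype_injective
    rw [map_commutator, map_top_subtype, hp]
  rw [MonoidHom.range_eq_map, ← map_commutator, ht]

theorem cj_cj_invol (hx : x * x = 1) (L : Subgroup G) : cj x (cj x L) = L := by
  rw [cj_cj, hx, cj_of_mem (one_mem L)]

theorem inf_cj_cent (c : L ≤ 𝐂 (cj x L)) : L ⊓ cj x L ≤ 𝐂 (L ⊔ cj x L) :=
  le_cent_sup (inf_le_right.trans (cent_symm c)) (inf_le_left.trans c)

theorem cent1_le_dg (c : L ≤ 𝐂 (cj x L)) (hx : x * x = 1) :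
    (L ⊔ cj x L) ⊓ 𝐂₁ x ≤ (L ⊓ cj x L) ⊔ (dgHom x L c).range := by
  rintro y ⟨hy, hyx⟩
  obtain ⟨l, hl, b, hb, rfl⟩ := (mem_sup_norm (norm_of_cent c)).1 hy
  obtain ⟨m, hm, rfl⟩ := mem_cj_iff.1 hb
  have hπ : m * (x * m * x⁻¹) ∈ (dgHom x L c).range := (mem_dg c).2 ⟨m, hm, rfl⟩
  have e : l * (x * m * x⁻¹) = (l * m⁻¹) * (m * (x * m * x⁻¹)) := by group
  have hd : l * m⁻¹ ∈ 𝐂₁ x := by
    have : l * m⁻¹ = l * (x * m * x⁻¹) * (m * (x * m * x⁻¹))⁻¹ := by group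
    rw [this]; exact mul_mem hyx (inv_mem (dg_cent1 c hx hπ))
  have hdL : l * m⁻¹ ∈ L := mul_mem hl (inv_mem hm)
  rw [e]
  refine mul_mem_sup ⟨hdL, ?_⟩ hπ
  have : l * m⁻¹ = x * (l * m⁻¹) * x⁻¹ := by rw [← mem_cent1.1 hd]; group
  rw [this]; exact conj_mem_cj.2 hdL

theorem der_cent1_eq_dg (c : L ≤ 𝐂 (cj x L)) (hx : x * x = 1) (hp : ⁅L, L⁆ = L) :
    ⁅(L ⊔ cj x L) ⊓ 𝐂₁ x, (L ⊔ cj x L) ⊓ 𝐂₁ x⁆ = (dgHom x L c).range := by
  set J := (dgHom x L c).range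
  have hZ : L ⊓ cj x L ≤ 𝐂 J := (inf_cj_cent c).trans (cent_anti (dg_le c))
  apply le_antisymm
  · refine (der_mono (cent1_le_dg c hx)).trans ?_
    have h1 : L ⊓ cj x L ≤ 𝐂 ((L ⊓ cj x L) ⊔ J) :=
      (inf_cj_cent c).trans (cent_anti (sup_le (inf_le_left.trans le_sup_left) (dg_le c)))
    rw [comm_sup_cent h1 (norm_of_cent hZ), commutator_comm, comm_sup_cent hZ (norm_of_cent hZ)]
    exact der_le _
  · exact (dg_perfect c hp).ge.trans (der_mono (le_inf (dg_le c) (dg_cent1 c hx)))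

/-- A subgroup of `L` normalized by the diagonal is normal in `L`. -/
theorem norm_of_dg_norm (c : L ≤ 𝐂 (cj x L)) {N : Subgroup G} (hN : N ≤ L)
    (h : (dgHom x L c).range ≤ 𝐍 N) : L ≤ 𝐍 N := by
  intro l hl
  have h1 : l * (x * l * x⁻¹) ∈ 𝐍 N := h ((mem_dg c).2 ⟨l, hl, rfl⟩)
  have h2 : x * l * x⁻¹ ∈ 𝐍 N :=
    cent_le_norm _ (cent_anti hN (cent_symm c (conj_mem_cj.2 hl)))
  have := mul_mem h1 (inv_mem h2)
  rwa [mul_inv_cancel_right] at this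

end CF.Sig
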