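/-
Averaging over the cosets of a subgroup.
-/
import Cfsg.Agent.BG.B11
set_option autoImplicit false
set_option linter.unusedSectionVars false

namespace CF.Sig
open Subgroup Cfsg CF.BG
open scoped commutatorElement Pointwise

theorem exists_avg {L M : Type*} [Group L] [Finite L] [CommGroup M] (φ : L →* MulAut M)
    (T : Subgroup L) : ∃ τ : M →* M, (∀ c, (∀ t ∈ T, φ t c = c) → ∀ l, φ l (τ c) = τ c) ∧
      ∀ N : Subgroup M, ∀ c, (∀ l, φ l c * c⁻¹ ∈ N) → τ c * (c ^ T.index)⁻¹ ∈ N := by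
  haveI := Fintype.ofFinite (L ⧸ T)
  refine ⟨∏ q : L ⧸ T, (φ q.out).toMonoidHom, fun c hc l => ?_, fun N c hc => ?_⟩
  · rw [MonoidHom.finsetProd_apply, map_prod]
    refine Fintype.prod_equiv (MulAction.toPerm l) _ _ fun q => ?_
    obtain ⟨t, e⟩ := QuotientGroup.mk_out_eq_mul T (l * q.out)
    have : MulAction.toPerm l q = (l * q.out : L) := by
      rw [MulAction.toPerm_apply]; conv_lhs => rw [← q.out_eq']
      rfl
    simp only [MulEquiv.coe_toMonoidHom, this, e, map_mul, MulAut.mul_apply, hc t t.2]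
  · rw [MonoidHom.finsetProd_apply, index, Nat.card_eq_fintype_card, ← Finset.card_univ,
      ← Finset.prod_const, ← Finset.prod_inv_distrib, ← Finset.prod_mul_distrib]
    exact prod_mem fun q _ => hc _

variable {G : Type*} [Group G] [Finite G] {A H S : Subgroup G}

open scoped IsMulCommutative in
theorem Abel.exists_compl_fix (a : Abel A) (n : H ≤ 𝐍 A) (hS : S ≤ H)
    (c : (S.relIndex H).Coprime (♯A)) : ∃ K, DProd (A ⊓ 𝐂 H) K (A ⊓ 𝐂 S) := by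
  haveI := a.comm
  obtain ⟨τ, h1, h2⟩ := exists_avg (CF.Coprime.conjAct H A n) (S.subgroupOf H)
  have f : ∀ x : A, (x : G) ∈ 𝐂 H ↔ ∀ l, CF.Coprime.conjAct H A n l x = x := fun x => by
    rw [mem_cent]
    refine ⟨fun h l => Subtype.ext ?_, fun h l hl => ?_⟩
    · rw [CF.Coprime.coe_conjAct_apply, h l l.2, mul_inv_cancel_right]
    · have := congrArg Subtype.val (h ⟨l, hl⟩)
      rw [CF.Coprime.coe_conjAct_apply] at this
      exact mul_inv_eq_iff_eq_mul.1 this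
  have p : ∀ x : A, (x : G) ∈ 𝐂 H → τ x = x ^ S.relIndex H := fun x hx =>
    mul_inv_eq_one.1 (mem_bot.1 (h2 ⊥ x fun l => by rw [(f x).1 hx l, mul_inv_cancel]; exact one_mem _))
  have l : A ⊓ 𝐂 H ≤ A ⊓ 𝐂 S := inf_le_inf_left _ (cent_anti hS)
  have l' : τ.ker.map A.subtype ⊓ 𝐂 S ≤ A ⊓ 𝐂 S := inf_le_inf_right _ (map_subtype_le _)
  refine ⟨τ.ker.map A.subtype ⊓ 𝐂 S, a.cent (l'.trans inf_le_left) inf_le_left,
    le_antisymm (sup_le l l') fun x hx => ?_, eq_bot_of_forall fun x hx => ?_⟩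
  · obtain ⟨y, hy⟩ := (powCoprime (G := ↥(A ⊓ 𝐂 H)) (n := S.relIndex H)
      (c.symm.coprime_dvd_left (card_dvd inf_le_left))).surjective ⟨τ ⟨x, hx.1⟩, (τ _).2,
        (f _).2 (h1 _ fun t ht => Subtype.ext (by
          rw [CF.Coprime.coe_conjAct_apply, mem_cent.1 hx.2 t ht, mul_inv_cancel_right]))⟩
    rw [← mul_inv_cancel_left (y : G) x]
    refine mul_mem_sup y.2 (mem_inf.mpr ⟨⟨(⟨y, y.2.1⟩ : A)⁻¹ * ⟨x, hx.1⟩, ?_, rfl⟩,
      mul_mem (inv_mem (mem_inf.mp (l y.2)).2) (mem_inf.mp hx).2⟩)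
    rw [SetLike.mem_coe, MonoidHom.mem_ker, map_mul, map_inv, p _ y.2.2, inv_mul_eq_one]
    exact Subtype.ext (congrArg Subtype.val hy :)
  · obtain ⟨⟨-, h⟩, ⟨y, hy, rfl⟩, -⟩ := hx
    have e := (p y h).symm.trans hy
    have := (powCoprime (G := A) c.symm).injective (a₁ := y) (a₂ := 1) (by simpa using e)
    rw [this]; rfl

/-- the weakly closed elements as a direct factor -/
theorem wc_factor {p : ℕ} {Q : Subgroup G} (s : Syl p S ⊤) (hQ : Q ≤ S) (n : S ≤ 𝐍 Q) (z : 𝐙 S ≤ Q)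
    (h : ∀ x ∈ S, x ∈ 𝐂 (𝐍 Q) → ∀ g : G, g * x * g⁻¹ ∈ S → g * x * g⁻¹ = x) :
    ∃ W K : Subgroup G, (∀ x : G, x ∈ W ↔ (x ∈ S ∧ ∀ g : G, g * x * g⁻¹ ∈ S → g * x * g⁻¹ = x)) ∧
      K ≤ 𝐙 S ∧ W ⊓ K = ⊥ ∧ W ⊔ K = 𝐙 S := by
  obtain ⟨K, d⟩ := Abel.exists_compl_fix (center_abel Q) (norm_center Q) n
    (PiNat.coprime' (s.of_le n le_top).idx (s.pi.le (inf_le_left.trans hQ)))
  have e : 𝐙 Q ⊓ 𝐂 S = 𝐙 S := le_antisymm (inf_le_inf_right _ (inf_le_left.trans hQ))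
    (le_inf (le_inf z (inf_le_right.trans (cent_anti hQ))) inf_le_right)
  rw [e] at d
  refine ⟨𝐙 Q ⊓ 𝐂 (𝐍 Q), K, fun x => ⟨fun hx => ⟨hQ hx.1.1, h x (hQ hx.1.1) hx.2⟩, fun hx => ?_⟩, d.right_le,
    d.inf, d.sup⟩
  have c : x ∈ 𝐙 S := mem_inf.mpr ⟨hx.1, mem_cent.2 fun g hg =>
    mul_inv_eq_iff_eq_mul.1 (hx.2 g (mul_mem (mul_mem hg hx.1) (inv_mem hg)))⟩
  exact mem_inf.mpr ⟨(e.ge c).1, mem_cent.2 fun g hg =>
    mul_inv_eq_iff_eq_mul.1 (hx.2 g (hQ (conj_mem_of_norm hg (z c))))⟩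

theorem wc_factor_O2 {p : ℕ} (s : Syl p S ⊤) (z : 𝐙 S ≤ O2 {p}ᶜ {p} ⊤) :
    ∃ W K : Subgroup G, (∀ x : G, x ∈ W ↔ (x ∈ S ∧ ∀ g : G, g * x * g⁻¹ ∈ S → g * x * g⁻¹ = x)) ∧
      K ≤ 𝐙 S ∧ W ⊓ K = ⊥ ∧ W ⊔ K = 𝐙 S := by
  have n := O2_normal {p}ᶜ {p} (⊤ : Subgroup G)
  have t := s.inf_O2
  refine wc_factor s inf_le_left (norm_inf (le_norm_self S) (le_top.trans n.norm))
    (le_inf inf_le_left z) fun x hx c g hg => ?_
  have f := t.syl_frattini_sup n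
  have nO := (O_normal {p}ᶜ (⊤ : Subgroup G)).norm
  conv at f => lhs; lhs; rw [← t.O_sup_eq]
  rw [sup_assoc, sup_eq_right.2 (le_inf le_top (le_norm_self _)), top_inf_eq] at f
  obtain ⟨a, ha, b, hb, rfl⟩ := (mem_sup_norm' (le_top.trans nO)).1 (f.ge (mem_top g))
  have e : a * b * x * (a * b)⁻¹ = a * x * a⁻¹ := by
    rw [mul_assoc a, mem_cent.1 c b hb]; group
  rw [e] at hg ⊢
  refine mul_inv_eq_one.1 (eq_one_of_mem_bot (s.pi.inf_eq_bot (O_pi _ ⊤)) (mem_inf.mpr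
    ⟨mul_mem hg (inv_mem hx), ?_⟩))
  simpa [mul_assoc] using mul_mem ha (conj_mem_of_norm (nO (mem_top x)) (inv_mem ha))

end CF.Sig
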